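import Cfsg.Agent.MX.Defs
import Cfsg.Agent.H34.Basic
import Cfsg.Agent.S0205
import Cfsg.Agent.S0243
import Cfsg.Agent.S4703
import Cfsg.Agent.S4508

set_option autoImplicit false

namespace Cfsg.Agent.MX

open Cfsg Subgroup

variable {K : Type*} [Group K] [Finite K]

theorem even_card [IsSimpleGroup K] (hK : ¬ IsMulCommutative K) : 2 ∣ Nat.card K :=
  by_contra fun h => hK ⟨⟨IsSimpleGroup.comm_iff_isSolvable.2
    (S0205.result (Nat.odd_iff.2 (by omega)))⟩⟩

theorem faithful [IsSimpleGroup K] (χ : IrrCharacter K) (h : (χ : K → ℂ) ≠ fun _ => 1) {g : K}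
    (hg : (χ : K → ℂ) g = (χ : K → ℂ) 1) : g = 1 := by
  rcases (H5.instNormalCharKer (H34.irr_isCharacter χ)).eq_bot_or_eq_top with e | e
  · exact mem_bot.1 (e ▸ (H5.mem_charKer _).2 hg)
  · exact absurd (H5.eq_one_of_forall_eq_degree χ.2 fun g => (H5.mem_charKer _).1 (e ▸ mem_top g)) h

theorem IsDeg.dvd {d : ℕ} (h : IsDeg K d) : d ∣ Nat.card K := by
  obtain ⟨χ, -, rfl⟩ := h
  exact H34.irr_degree_dvd_card χ

theorem IsDeg.sq_lt {d : ℕ} (h : IsDeg K d) : d * d < Nat.card K := by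
  classical
  obtain ⟨χ, h, rfl⟩ := h
  have h1 : ∑ ψ : IrrCharacter K, charDegree (ψ : K → ℂ) ^ 2 = Nat.card K := by
    have := H5.sum_degree_sq (G := K)
    simp only [← H34.irr_degree_cast] at this
    exact_mod_cast this
  have h2 := Finset.sum_le_sum_of_subset (f := fun ψ : IrrCharacter K => charDegree (ψ : K → ℂ) ^ 2)
    (Finset.subset_univ {χ, H35.triv K})
  rw [h1, Finset.sum_pair fun e => h (congrArg Subtype.val e), H35.degree_triv, sq] at h2
  omega

theorem IsDeg.two_le [IsSimpleGroup K] (hK : ¬ IsMulCommutative K) {d : ℕ} (h : IsDeg K d) :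
    2 ≤ d := by
  obtain ⟨χ, h, rfl⟩ := h
  have h0 := H34.irr_degree_ne_zero χ
  by_contra h2
  have h1 : (χ : K → ℂ) 1 = 1 := by
    rw [← H34.irr_degree_cast, show charDegree (χ : K → ℂ) = 1 by omega, Nat.cast_one]
  obtain ⟨l, hl⟩ := H5.exists_monoidHom_of_degree_one (H34.irr_isCharacter χ) h1
  refine hK ⟨⟨fun a b => commutatorElement_eq_one_iff_mul_comm.1 (faithful χ h ?_)⟩⟩
  rw [hl]
  simp only [map_commutatorElement, commutatorElement_eq_one_iff_mul_comm.2 (mul_comm (l a) (l b)), map_one]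

omit [Finite K] in
theorem center_eq_bot [IsSimpleGroup K] (hK : ¬ IsMulCommutative K) : center K = ⊥ :=
  (normal_of_characteristic _).eq_bot_or_eq_top.resolve_right fun e =>
    hK ⟨⟨fun a b => mem_center_iff.1 (e ▸ mem_top b) a⟩⟩

/-- S4703 -/
theorem IsDeg.min [IsSimpleGroup K] (hK : ¬ IsMulCommutative K) {q : ℕ} (hq : q.Prime)
    (h7 : 7 < q) (h1 : q ∣ Nat.card K) (h2 : ¬ q ^ 2 ∣ Nat.card K)
    (h3 : 2 * Nat.card K ≠ q * (q * q - 1)) {d : ℕ} (h : IsDeg K d) : q ≤ d + 2 := by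
  have := Fact.mk hq
  obtain ⟨χ, h, rfl⟩ := h
  obtain ⟨P⟩ : Nonempty (Sylow q K) := inferInstance
  have hP : Nat.card P = q := by
    rw [P.card_eq_multiplicity, le_antisymm (Nat.lt_succ_iff.1 (not_le.1 fun e =>
      h2 ((hq.pow_dvd_iff_le_factorization Nat.card_pos.ne').2 e))) (hq.factorization_pos_of_dvd Nat.card_pos.ne' h1), pow_one]
  have hz := center_eq_bot hK
  have hn : ¬ (P : Subgroup K).Normal := fun hn => by
    rcases hn.eq_bot_or_eq_top with e | e
    · rw [e, card_bot] at hP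
      omega
    · rw [e, card_top] at hP
      exact hK (isCyclic_of_prime_card hP).isMulCommutative
  rcases S4703.result (by rw [hz, card_bot]; exact odd_one) q h7 P hP hn χ χ.2
    fun g => faithful χ h with ⟨⟨F, _, _, hF, ⟨e⟩⟩, -⟩ | h4
  · exfalso
    have e1 := S0243.result hF 2 le_rfl
    obtain ⟨k, hk⟩ := hq.odd_of_ne_two (by omega)
    rw [← Nat.card_congr e.toEquiv, Nat.card_congr ((QuotientGroup.quotientMulEquivOfEq hz).trans
      QuotientGroup.quotientBot).toEquiv, Nat.gcd_eq_left (by omega : 2 ∣ q - 1), Fin.prod_univ_two] at e1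
    refine h3 (Nat.eq_of_mul_eq_mul_left (show 0 < q - 1 by omega) ?_)
    rw [mul_left_comm, e1]
    simp only [Fin.val_zero, Fin.val_one, pow_zero, pow_one, sq]
    rw [← Nat.mul_sub_one q q]
    ring
  · omega

/-- S4508 -/
theorem IsDeg.ne_pred [IsSimpleGroup K] (hK : ¬ IsMulCommutative K) {q e t : ℕ} (hq : q.Prime)
    {x : K} (hx : orderOf x = q) (hC : Nat.card (Cg x) = q) (hN : Nat.card (Ng x) = e * q)
    (ht : q = e * t + 1) (hodd : Odd t) {d : ℕ} (h : IsDeg K d) : d + 1 ≠ q := fun hd => by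
  have := Fact.mk hq
  obtain ⟨χ, h, rfl⟩ := h
  have hz : Cg x = zpowers x := (eq_of_le_of_card_ge (zpowers_le_of_mem (mem_centralizer_singleton_iff.2 rfl))
    (by rw [hC, Nat.card_zpowers, hx])).symm
  have h1 := H35.card_classes_mul_relIndex hx (H35.not_sq_dvd_of_centralizer_eq hx hz)
  have h2 : (Cg x).relIndex (Ng x) = e := by
    have := ((Cg x).subgroupOf (Ng x)).card_mul_index
    rw [Nat.card_congr (subgroupOfEquivOfLe (hz ▸ le_normalizer)).toEquiv, hC, hN, mul_comm e] at this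
    exact Nat.eq_of_mul_eq_mul_left hq.pos this
  have he : 0 < e := Nat.pos_of_ne_zero fun e0 => by rw [e0, zero_mul] at ht; exact hq.one_lt.ne' ht
  rw [h2, show q - 1 = t * e by rw [ht, mul_comm]; rfl] at h1
  rcases S4508.result q hq x hx hz t ((Nat.card_congr (Equiv.subtypeEquivRight fun C => by
    simp only [ConjClasses.mem_carrier_iff_mk_eq])).trans (Nat.eq_of_mul_eq_mul_right he h1)) χ hd with h3 | h3
  · exact Nat.not_even_iff_odd.2 hodd h3
  · rcases (inferInstance : (commutator K).Normal).eq_bot_or_eq_top with e1 | e1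
    · exact hK ⟨⟨fun a b => commutatorElement_eq_one_iff_mul_comm.1
        (mem_bot.1 (e1 ▸ commutator_mem_commutator (mem_top a) (mem_top b)))⟩⟩
    · rw [e1, index_top] at h3
      exact Nat.not_even_one h3

end Cfsg.Agent.MX
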