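import Cfsg.Agent.MX.Defs
import Cfsg.Agent.MX.TriRat
import Cfsg.Agent.MX.Deg

set_option autoImplicit false

namespace Cfsg.Agent.MX

open Cfsg Subgroup

variable {K : Type*} [Group K] [Finite K]

namespace D110

variable {V : Type} [AddCommGroup V] [Module ℂ V] [FiniteDimensional ℂ V]

/-- the fixed vectors -/
def Fx (T : Module.End ℂ V) : Submodule ℂ V := LinearMap.ker (T - 1)

omit [FiniteDimensional ℂ V] in
theorem mem_Fx {T : Module.End ℂ V} {v : V} : v ∈ Fx T ↔ T v = v := by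
  simp [Fx, sub_eq_zero]

theorem dim_Fx {T : Module.End ℂ V} (h : T ^ 11 = 1) :
    (11 : ℂ) * Module.finrank ℂ (Fx T) = ∑ j ∈ Finset.range 11, LinearMap.trace ℂ V (T ^ j) := by
  have hp : LinearMap.IsProj (Fx T) ((11 : ℂ)⁻¹ • ∑ j ∈ Finset.range 11, T ^ j) := by
    constructor
    · intro v
      have := mul_geom_sum T 11
      rw [h, sub_self] at this
      rw [Fx, LinearMap.mem_ker, LinearMap.smul_apply, map_smul, ← Module.End.mul_apply, this]
      simp
    · intro v hv
      have : ∀ j : ℕ, (T ^ j) v = v := fun j => by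
        induction j with
        | zero => rfl
        | succ j ih => rw [pow_succ, Module.End.mul_apply, mem_Fx.1 hv, ih]
      rw [LinearMap.smul_apply, LinearMap.sum_apply, Finset.sum_congr rfl fun j _ => this j,
        Finset.sum_const, Finset.card_range, ← Nat.cast_smul_eq_nsmul ℂ, smul_smul]
      norm_num
  rw [← hp.trace, map_smul, map_sum, smul_eq_mul, ← mul_assoc]
  norm_num

theorem pow_dim {A B G : Module.End ℂ V} {w : ℂ} (hA : Function.Injective A) (hB : Function.Injective B)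
    (h1 : A * G = G * A) (h2 : B * G = G * B) (h : A * B = G * (B * A)) :
    w ^ Module.finrank ℂ (Fx (w • G)) = 1 := by
  have m : ∀ C : Module.End ℂ V, C * G = G * C → ∀ v ∈ Fx (w • G), C v ∈ Fx (w • G) := fun C hC v hv => by
    rw [mem_Fx] at hv ⊢
    rw [LinearMap.smul_apply, ← Module.End.mul_apply, ← hC, Module.End.mul_apply, ← map_smul]
    exact congrArg C hv
  have n : ∀ (C : Module.End ℂ V) (hC : ∀ v ∈ Fx (w • G), C v ∈ Fx (w • G)), Function.Injective C →
      LinearMap.det (C.restrict hC) ≠ 0 := fun C hC hi e =>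
    LinearMap.det_eq_zero_iff_ker_ne_bot.1 e (LinearMap.ker_eq_bot.2 fun x y e' =>
      Subtype.ext (hi (congrArg Subtype.val e')))
  have e : w • (A.restrict (m A h1) * B.restrict (m B h2)) = B.restrict (m B h2) * A.restrict (m A h1) := by
    ext v
    have := mem_Fx.1 (m B h2 _ (m A h1 _ v.2))
    show w • (A * B) v = B (A v)
    rw [h, ← this]
    simp
  have := congrArg LinearMap.det e
  rw [LinearMap.det_smul, map_mul, map_mul, mul_comm (LinearMap.det (B.restrict _))] at this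
  exact (mul_eq_right₀ (mul_ne_zero (n A _ hA) (n B _ hB))).1 this

end D110

open D110

theorem deg110 (χ : IrrCharacter K) {g s₁ s₂ : K} (hg : orderOf g = 11)
    (hc : g = s₁ * s₂ * s₁⁻¹ * s₂⁻¹) (h₁ : s₁ * g = g * s₁) (h₂ : s₂ * g = g * s₂)
    (h : ∀ j : ℕ, ¬ 11 ∣ j → (χ : K → ℂ) (g ^ j) = (χ : K → ℂ) g)
    (hne : (χ : K → ℂ) g ≠ (χ : K → ℂ) 1) : 110 ≤ charDegree (χ : K → ℂ) := by
  obtain ⟨χ, n, ρ, hρ, rfl⟩ := χ
  simp only at h hne ⊢
  have h1 : ρ.character 1 = n := by simp
  have hd : charDegree ρ.character = n := by simp [charDegree]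
  have g11 : ρ g ^ 11 = 1 := by rw [← map_pow, ← hg, pow_orderOf_eq_one, map_one]
  have hw : IsPrimitiveRoot (Complex.exp (2 * Real.pi * Complex.I / (11 : ℕ))) 11 :=
    Complex.isPrimitiveRoot_exp 11 (by norm_num)
  generalize Complex.exp (2 * Real.pi * Complex.I / (11 : ℕ)) = w at hw
  have tr : ∀ c : ℂ, ∑ j ∈ Finset.range 11, LinearMap.trace ℂ _ ((c • ρ g) ^ j) =
      n + (∑ j ∈ Finset.range 11, c ^ j - 1) * ρ.character g := fun c => by
    rw [Finset.sum_range_succ', Finset.sum_range_succ' (c ^ ·), pow_zero, pow_zero, add_sub_cancel_right,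
      Finset.sum_mul, add_comm]
    congr 1
    · simp
    · refine Finset.sum_congr rfl fun j hj => ?_
      rw [smul_pow, map_smul, smul_eq_mul, ← map_pow, ← h (j + 1)]
      · rfl
      · rw [Finset.mem_range] at hj
        omega
  have d0 := dim_Fx (T := (1 : ℂ) • ρ g) (by rw [one_smul, g11])
  have d1 := dim_Fx (T := w • ρ g) (by rw [smul_pow, g11, hw.pow_eq_one, one_smul])
  rw [tr] at d0 d1
  rw [hw.geom_sum_eq_zero (by norm_num)] at d1
  have inj : ∀ s : K, Function.Injective (ρ s) := fun s =>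
    Function.LeftInverse.injective (g := ρ s⁻¹) fun v => by
      rw [← Module.End.mul_apply, ← map_mul, inv_mul_cancel, map_one, Module.End.one_apply]
  have dv := (hw.pow_eq_one_iff_dvd _).1 (pow_dim (w := w) (G := ρ g) (inj s₁) (inj s₂)
    (by rw [← map_mul, h₁, map_mul]) (by rw [← map_mul, h₂, map_mul])
    (by rw [← map_mul, ← map_mul, ← map_mul, hc]; congr 1; group))
  generalize Module.finrank ℂ (Fx (w • ρ g)) = m at d1 dv
  generalize Module.finrank ℂ (Fx ((1 : ℂ) • ρ g)) = m0 at d0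
  have m1 : m ≠ 0 := by
    rintro rfl
    apply hne
    rw [h1]
    linear_combination d1
  have e : (n : ℂ) = 10 * m + m0 := by
    simp only [one_pow, Finset.sum_const, Finset.card_range, nsmul_eq_mul] at d0
    push_cast at d0
    linear_combination (-10 / 11 : ℂ) * d1 - (1 / 11 : ℂ) * d0
  have e' : n = 10 * m + m0 := by exact_mod_cast e
  rw [hd]
  omega

theorem Tri.ge110 [IsSimpleGroup K] (T : Tri K) (hne : T.a.natAbs ≠ T.b.natAbs) (U : Subgroup K)
    (hU : IsExtraspecial 11 U) : 110 ≤ T.a.natAbs ∧ 110 ≤ T.b.natAbs := by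
  obtain ⟨⟨-, -, hc⟩, h11⟩ := hU
  have : Fact (Nat.Prime 11) := ⟨by norm_num⟩
  obtain ⟨s, t, hst⟩ : ∃ s t : U, s * t * s⁻¹ * t⁻¹ ≠ 1 := by
    by_contra hn
    push Not at hn
    have : commutator U = ⊥ := eq_bot_iff.2 (commutator_le.2 fun a _ b _ => hn a b)
    rw [← hc, this, card_bot] at h11
    exact absurd h11 (by norm_num)
  have hz : s * t * s⁻¹ * t⁻¹ ∈ center U := hc ▸ commutator_mem_commutator (mem_top s) (mem_top t)
  have ho : orderOf (s * t * s⁻¹ * t⁻¹) = 11 := by
    refine orderOf_eq_prime ?_ hst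
    have := pow_card_eq_one' (x := (⟨_, hz⟩ : center U))
    rw [h11] at this
    exact congrArg Subtype.val this
  have ho' : orderOf ((s : K) * t * (s : K)⁻¹ * (t : K)⁻¹) = 11 := by
    rw [← ho, ← orderOf_coe]; rfl
  have c1 := congrArg Subtype.val (mem_center_iff.1 hz s)
  have c2 := congrArg Subtype.val (mem_center_iff.1 hz t)
  have g1 : (s : K) * t * (s : K)⁻¹ * (t : K)⁻¹ ≠ 1 := fun e => hst (Subtype.ext e)
  rw [T.natAbs_a, T.natAbs_b]
  exact ⟨deg110 T.χ₂ ho' rfl c1 c2 (fun j hj => (T.rat_prime hne Fact.out ho' hj).1)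
      fun e => g1 (faithful T.χ₂ T.ne₂ e),
    deg110 T.χ₃ ho' rfl c1 c2 (fun j hj => (T.rat_prime hne Fact.out ho' hj).2)
      fun e => g1 (faithful T.χ₃ T.ne₃ e)⟩

end Cfsg.Agent.MX
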