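import Cfsg.Agent.MX.Defs
import Cfsg.Agent.S5565
import Cfsg.Agent.S5566
import Cfsg.Agent.S5568
import Cfsg.Agent.S5570
import Cfsg.Agent.S5572
import Cfsg.Agent.S5573
import Cfsg.Agent.S5575
import Cfsg.Agent.S5577

set_option autoImplicit false

namespace Cfsg.Agent.MX

open Cfsg Subgroup

namespace ExJ

open SGJ4

theorem good {G : Type*} [Group G] [Finite G] [IsSimpleGroup G] (hG : ¬ IsMulCommutative G)
    (hJ : IsOfJankoFourType G) (S : Setup G) :
    El.Good G 23 22 ∧ El.Good G 29 28 ∧ El.Good G 31 10 ∧ El.Good G 37 12 ∧ El.Good G 43 14 := by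
  obtain ⟨⟨A, h1, h2, h3⟩, -, h4⟩ := S5570.result hG hJ
  obtain ⟨⟨B, -, -, -, ⟨e⟩⟩, -⟩ := h4 A h1 h2 h3
  have hB : Nat.card B = 9999360 := by
    have h5 := H9.card_sl_fin (F := ZMod 2) 5 (by norm_num)
    rw [ZMod.card, ← Nat.card_congr e.toEquiv] at h5
    generalize Nat.card B = n at h5 ⊢
    norm_num [Fin.prod_univ_succ] at h5
    omega
  exact El.good_all S hB

theorem cent_E {G : Type*} [Group G] (S : Setup1 G) (hz : S.z ∈ S.E)
    (h : S.H ⊓ centralizer (S.E : Set G) ≤ S.E) : centralizer (S.E : Set G) ≤ zpowers S.z := by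
  intro g hg
  have gH : g ∈ S.H := S.mem_H.2 (hg _ hz).symm
  obtain ⟨-, v, hv⟩ := Setup1.mem_E.1 (h ⟨gH, hg⟩)
  have h0 : v = 0 := eq_zero_of_B fun w => by
    obtain ⟨k, hk, e⟩ := Setup1.exists_tr (S := S) w
    exact Setup1.B_eq_zero_of_comm gH hk hv.symm e (hg k (Setup1.mem_E.2 ⟨hk, w, e.symm⟩)).symm
  rcases (Setup1.pi_eq_one gH).1 (by rw [← hv, h0]; exact tr_zero) with e | e
  · exact e ▸ one_mem _
  · exact e ▸ mem_zpowers _

end ExJ

open SGJ4 in
theorem exists_JF {G : Type*} [Group G] [Finite G] [IsSimpleGroup G] (hG : ¬ IsMulCommutative G)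
    {z : G} (hJ : IsOfJankoFourTypeAt z) : ∃ J : JF G, J.z = z := by
  obtain ⟨P, h⟩ := id hJ
  obtain ⟨S1, rfl, rfl, hE⟩ := exists_setup1 h
  obtain ⟨S, rfl⟩ := S1.exists_setup
  obtain ⟨-, -, -, h4, ⟨N, n1, n2, n3, n4, -, -⟩, -, h7, -, -⟩ := h
  rw [← hE] at h4 n1 n4 h7
  obtain ⟨x, hx⟩ := El.exists_isX S.toSetup1
  obtain ⟨g1, g2, g3, g4, g5⟩ := ExJ.good hG ⟨_, hJ⟩ S
  have hz : S.z ∈ S.toSetup1.E := Setup1.z_mem_pre _
  refine ⟨{
    z := S.z, p := S.p, x := x, E := S.toSetup1.E, N := N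
    card_G := S.card_G
    ord_z := S.ord_z
    ord_p := S.ord_p
    ord_x := hx.ord
    card_H := El.card_H _
    c2 := fun g hg => (Setup.two' (S := S) hg).imp (fun c => (El.card_cent_isConj c).trans (El.card_H _))
      fun c => (El.card_cent_isConj c).trans H7.J4.card_cent_t
    c3 := fun g hg => (El.card_cent_isConj (S.conj_three hg)).trans S.card_cent_p
    c5 := fun g hg => ?_
    c7 := fun g hg => (H60.J4.seven_of S S.not_dvd_49 hg).2
    iso := ?_
    c11 := fun g hg => ?_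
    c242 := ⟨_, El.orderOf_yy (S := S), El.card_cent_yy⟩
    cx := hx.card_cent
    nx := hx.card_norm
    cxU := hx.struct.2
    cxH := hx.card_cent_H
    invol := fun w h1 h2 h3 => hx.invol h1 (mem_centralizer_singleton_iff.1 h2) h3
    x_mem := hx.mem
    p_mem := S.p_mem
    p_x := mem_centralizer_singleton_iff.2 hx.p_comm
    syl11 := fun U => let ⟨a, b, c, d, _⟩ := El.sylow_eleven S U; ⟨a, b, c, d⟩
    card_E := Setup1.card_E
    z_mem := hz
    E_le := Setup1.E_le_H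
    E_norm := ?_
    cent_E := ExJ.cent_E _ hz h4
    E_p := ?_
    E_N := n1
    N_le := n2
    N_norm := n3
    card_N := by rw [n4, Setup1.card_E]
    syl3 := fun R hR => let ⟨a, b, _, d, _⟩ := S5565.result hG _ hJ R hR; ⟨a, b, d⟩
    uniqV := S5566.result hG ⟨_, hJ⟩ }, rfl⟩
  · obtain ⟨Z, w, r, k, f⟩ := H60.J4.five_of S S.not_dvd_25 hg
    exact ⟨f.card_cent, by rw [H60.J4.card_norm_five hg f.conj, f.card_cent]⟩
  · intro q hq g hg
    simp only [isoL, List.mem_cons, List.not_mem_nil, or_false] at hq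
    rcases hq with rfl | rfl | rfl | rfl | rfl
    exacts [⟨g1.cent_eq hg, (g1 g hg).2⟩, ⟨g2.cent_eq hg, (g2 g hg).2⟩, ⟨g3.cent_eq hg, (g3 g hg).2⟩,
      ⟨g4.cent_eq hg, (g4 g hg).2⟩, ⟨g5.cent_eq hg, (g5 g hg).2⟩]
  · rcases hx.cases (k := 1) (hg.trans (pow_one 11).symm) with e | e | e
    · rw [e, orderOf_one] at hg; omega
    · exact .inl e
    · exact .inr ((El.card_cent_isConj e).trans El.card_cent_yy)
  · rw [hE]
    refine (normal_subgroupOf_iff_le_normalizer (map_subtype_le _)).1 ?_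
    rw [← comap_subtype, comap_map_eq_self_of_injective (subtype_injective _)]
    exact pCore_normal 2 _
  · rw [← h7, zpowers_eq_closure S.p, centralizer_closure]

open SGJ4 in
theorem card_NV {G : Type*} [Group G] [Finite G] [IsSimpleGroup G] (hG : ¬ IsMulCommutative G)
    {z : G} (hJ : IsOfJankoFourTypeAt z) {V : Subgroup G} (hV : IsElementaryAbelian 2 V)
    (hc : Nat.card V = 2 ^ 11) : Nat.card (normalizer (V : Set G)) = 501397585920 := by
  obtain ⟨S, -, rfl⟩ := exists_setup_V hJ hV hc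
  rw [← Setup.N_eq]
  exact El.card_N

end Cfsg.Agent.MX
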