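import Cfsg.Agent.MX.Defs
import Cfsg.Agent.MX.Om
import Cfsg.Agent.MX.Inv
import Cfsg.Agent.MX.Deg
import Cfsg.Agent.S0944

set_option autoImplicit false

namespace Cfsg.Agent.MX

open Cfsg Subgroup

variable {K : Type*} [Group K] [Finite K]

namespace TriSq

theorem deg_one (χ : IrrCharacter K) : (χ : K → ℂ) 1 = (charDegree (χ : K → ℂ) : ℂ) := by
  obtain ⟨d, μ, h1, -, -⟩ := H5.exists_eigenvalues (H5.isCharacter_of_isIrr χ.2) 1
  have hd : charDegree (χ : K → ℂ) = d := by simp [charDegree, h1]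
  rw [hd, h1]

theorem reg_of (hreal : ∀ t g : K, t * t = 1 → orderOf g = 7 → t * g * t⁻¹ ≠ g⁻¹) {a b : K}
    (ha : a * a = 1) (hb : b * b = 1) : ¬ 7 ∣ orderOf (a * b) := by
  intro h
  have h0 : orderOf (a * b) ≠ 0 := (orderOf_pos _).ne'
  refine hreal a ((a * b) ^ (orderOf (a * b) / 7)) ha (orderOf_pow_orderOf_div h0 h) ?_
  have ia : a⁻¹ = a := inv_eq_of_mul_eq_one_right ha
  have ib : b⁻¹ = b := inv_eq_of_mul_eq_one_right hb
  have e : a * (a * b) * a⁻¹ = (a * b)⁻¹ := by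
    rw [← mul_assoc a a, ha, one_mul, mul_inv_rev, ib]
  rw [← conj_pow, e, inv_pow]

theorem sg_sq {s : ℤ} (h : s = 1 ∨ s = -1) : (s : ℂ) * s = 1 := by
  rcases h with rfl | rfl <;> simp

theorem syl_eq {x : K} (hx : orderOf x = 7) (hsq : ¬ 7 ^ 2 ∣ Nat.card K) :
    ∃ P : Sylow 7 K, (P : Subgroup K) = zpowers x := by
  haveI : Fact (Nat.Prime 7) := ⟨by norm_num⟩
  have hc : Nat.card (zpowers x) = 7 ^ 1 := by rw [Nat.card_zpowers, hx, pow_one]
  obtain ⟨P, hP⟩ := (IsPGroup.of_card hc).exists_le_sylow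
  refine ⟨P, (eq_of_le_of_card_ge hP ?_).symm⟩
  obtain ⟨n, hn⟩ := IsPGroup.iff_card.1 P.isPGroup'
  rw [hn, hc]
  refine Nat.pow_le_pow_right (by norm_num) (not_lt.1 fun h => hsq ?_)
  exact (pow_dvd_pow 7 h).trans (hn ▸ card_subgroup_dvd_card _)

end TriSq

open TriSq

theorem Tri.square [IsSimpleGroup K] (hK : ¬ IsMulCommutative K) (T : Tri K)
    (hreal : ∀ t g : K, t * t = 1 → orderOf g = 7 → t * g * t⁻¹ ≠ g⁻¹) :
    IsSquare (-(T.a * T.b * T.y)) := by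
  classical
  letI := Fintype.ofFinite K
  obtain ⟨t, ht⟩ := exists_prime_orderOf_dvd_card' 2 (even_card hK)
  have tt : t * t = 1 := by rw [← pow_two, ← ht, pow_orderOf_eq_one]
  have t1 : t ≠ 1 := fun e => by simp [e] at ht
  have cc : ∀ u : K, u * t * u⁻¹ * (u * t * u⁻¹) = 1 := fun u => by
    rw [conj_mul, tt, mul_one, mul_inv_cancel]
  obtain ⟨α, hα, -⟩ := S0944.result T.χ₂ t ht
  obtain ⟨β, hβ, -⟩ := S0944.result T.χ₃ t ht
  have hγ := T.reg t (by rw [ht]; norm_num)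
  have h2 := sum_conj_mul T.χ₂ t
  have h3 := sum_conj_mul T.χ₃ t
  have hθ := sum_conj_mul T.θ t
  rw [deg_one] at h2 h3 hθ
  have hs : (T.s : ℂ) * ∑ u : K, ∑ v : K, (T.θ : K → ℂ) ((u * t * u⁻¹) * (v * t * v⁻¹)) =
      (Nat.card K : ℂ) ^ 2 + T.s₂ * ∑ u : K, ∑ v : K, (T.χ₂ : K → ℂ) ((u * t * u⁻¹) * (v * t * v⁻¹)) +
        T.s₃ * ∑ u : K, ∑ v : K, (T.χ₃ : K → ℂ) ((u * t * u⁻¹) * (v * t * v⁻¹)) := by
    simp only [Finset.mul_sum, T.reg _ (reg_of hreal (cc _) (cc _)), Finset.sum_add_distrib,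
      Finset.sum_const, Finset.card_univ, Nat.card_eq_fintype_card, nsmul_eq_mul]
    ring
  have e2 := sg_sq T.hs₂
  have e3 := sg_sq T.hs₃
  have e := sg_sq T.hs
  have hN : (Nat.card K : ℂ) ^ 2 ≠ 0 := pow_ne_zero _ (Nat.cast_ne_zero.2 Nat.card_pos.ne')
  have ha : T.a ≠ 0 := fun h => by
    have := T.mod₂
    rw [show T.s₂ * (charDegree (T.χ₂ : K → ℂ) : ℤ) = 0 from h] at this
    exact absurd this (by decide)
  have hb : T.b ≠ 0 := fun h => by
    have := T.mod₃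
    rw [show T.s₃ * (charDegree (T.χ₃ : K → ℂ) : ℤ) = 0 from h] at this
    exact absurd this (by decide)
  have hy : T.y ≠ 0 := fun h => by
    have := T.modθ
    rw [show T.s * (charDegree (T.θ : K → ℂ) : ℤ) = 0 from h] at this
    exact absurd this (by decide)
  refine sq_arith (α := T.s₂ * α) (β := T.s₃ * β) ha hb hy T.deg_eq (fun h => t1 ?_) ?_
  · refine faithful T.χ₂ T.ne₂ ?_
    have h' : ((T.s₂ * α : ℤ) : ℂ) = (T.s₂ * (charDegree (T.χ₂ : K → ℂ) : ℤ) : ℤ) := congrArg _ h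
    push_cast at h'
    rw [hα, deg_one]
    linear_combination (T.s₂ : ℂ) * h' - (α - (charDegree (T.χ₂ : K → ℂ) : ℂ)) * e2
  · apply Int.cast_injective (α := ℂ)
    apply mul_left_cancel₀ hN
    rw [hα] at h2 hγ
    rw [hβ] at h3 hγ
    simp only [Tri.a, Tri.b, Tri.y]
    push_cast
    rw [← hγ]
    generalize (∑ u : K, ∑ v : K, (T.θ : K → ℂ) ((u * t * u⁻¹) * (v * t * v⁻¹))) = A at *
    generalize (∑ u : K, ∑ v : K, (T.χ₂ : K → ℂ) ((u * t * u⁻¹) * (v * t * v⁻¹))) = A2 at *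
    generalize (∑ u : K, ∑ v : K, (T.χ₃ : K → ℂ) ((u * t * u⁻¹) * (v * t * v⁻¹))) = A3 at *
    generalize (charDegree (T.θ : K → ℂ) : ℂ) = d at *
    generalize (charDegree (T.χ₂ : K → ℂ) : ℂ) = d2 at *
    generalize (charDegree (T.χ₃ : K → ℂ) : ℂ) = d3 at *
    generalize (Nat.card K : ℂ) ^ 2 = n at *
    generalize (T.θ : K → ℂ) t = γ at *
    generalize (T.s : ℂ) = s at *
    generalize (T.s₂ : ℂ) = s2 at *
    generalize (T.s₃ : ℂ) = s3 at *
    linear_combination (s2 * d2 * (s3 * d3) * (s * d)) * hs - (s * s * (s2 * d2) * (s3 * d3)) * hθ +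
      (s2 * s2 * (s3 * d3) * (s * d)) * h2 + (s3 * s3 * (s2 * d2) * (s * d)) * h3

/-- inertial index 3: no element of order 7 is inverted by an involution -/
theorem not_real {x : K} (hx : orderOf x = 7) (hsq : ¬ 7 ^ 2 ∣ Nat.card K)
    (he : Nat.card (Ng x) = 3 * Nat.card (Cg x)) :
    ∀ t g : K, t * t = 1 → orderOf g = 7 → t * g * t⁻¹ ≠ g⁻¹ := by
  haveI : Fact (Nat.Prime 7) := ⟨by norm_num⟩
  have key : ∀ t g : K, t * t = 1 → orderOf g = 7 → g ∈ zpowers x → t * g * t⁻¹ ≠ g⁻¹ := by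
    intro t g tt hg hm e
    have hz : zpowers g = zpowers x := eq_of_le_of_card_ge (zpowers_le.2 hm)
      (by rw [Nat.card_zpowers, Nat.card_zpowers, hx, hg])
    have cz : ∀ c ∈ Cg x, ∀ y ∈ zpowers x, y * c = c * y := by
      rintro c hc _ ⟨k, rfl⟩
      exact (Commute.zpow_left (hc x rfl) k).eq
    have hle : Cg x ≤ Ng x := fun c hc => mem_normalizer_fintype fun y hy => by
      rw [← cz c hc y hy, mul_inv_cancel_right]; exact hy
    haveI : ((Cg x).subgroupOf (Ng x)).Normal := ⟨fun c hc n => by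
      rw [mem_subgroupOf] at hc ⊢
      rintro y rfl
      have := cz _ hc _ ((mem_normalizer_iff''.1 n.2 y).1 (mem_zpowers y))
      push_cast
      calc y * (n * c * (n : K)⁻¹) = n * ((n : K)⁻¹ * y * n * c) * (n : K)⁻¹ := by group
        _ = _ := by rw [this]; group⟩
    have hi : ((Cg x).subgroupOf (Ng x)).index = 3 := by
      have h1 := ((Cg x).subgroupOf (Ng x)).card_mul_index
      rw [Nat.card_congr (subgroupOfEquivOfLe hle).toEquiv, he, mul_comm] at h1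
      exact Nat.eq_of_mul_eq_mul_right Nat.card_pos h1
    have tN : t ∈ Ng x := mem_normalizer_fintype fun y hy => by
      rw [← hz] at hy ⊢
      obtain ⟨k, rfl⟩ := hy
      rw [← conj_zpow, e]
      exact zpow_mem (inv_mem (mem_zpowers g)) k
    have h3 := ((Cg x).subgroupOf (Ng x)).pow_index_mem ⟨t, tN⟩
    rw [hi, mem_subgroupOf] at h3
    have h4 : t ∈ Cg x := by
      have : t ^ 3 = t := by rw [pow_three, tt, mul_one]
      exact this ▸ h3
    rw [← cz t h4 g hm, mul_inv_cancel_right] at e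
    have h5 : g ^ 2 = 1 := by rw [pow_two]; nth_rewrite 1 [e]; exact inv_mul_cancel g
    have := orderOf_dvd_of_pow_eq_one h5
    rw [hg] at this
    exact absurd this (by norm_num)
  intro t g tt hg e
  obtain ⟨P, hP⟩ := syl_eq hx hsq
  obtain ⟨Q, hQ⟩ := syl_eq hg hsq
  obtain ⟨k, hk⟩ := MulAction.exists_smul_eq K Q P
  have hm : k * g * k⁻¹ ∈ zpowers x := by
    rw [← hP, ← hk, Sylow.coe_subgroup_smul, hQ]
    exact smul_mem_pointwise_smul g (MulAut.conj k) _ (mem_zpowers g)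
  refine key (k * t * k⁻¹) (k * g * k⁻¹) (by rw [conj_mul, tt, mul_one, mul_inv_cancel])
    (by rw [← hg]; exact ((MulAut.conj k).orderOf_eq g)) hm ?_
  rw [conj_inv, conj_inv, conj_mul, conj_mul, e]

end Cfsg.Agent.MX
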