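import Cfsg.Agent.MX.Defs
import Cfsg.Agent.MX.NF
import Cfsg.Agent.MX.Loc
import Cfsg.Agent.MX.TriEx
import Cfsg.Agent.MX.TriSq
import Cfsg.Agent.MX.TriQ
import Cfsg.Agent.MX.Om

set_option autoImplicit false

namespace Cfsg.Agent.MX

open Cfsg Subgroup

variable {G : Type*} [Group G] [Finite G]

theorem JF.nf_7 (J : JF G) {K M : Subgroup G} [IsSimpleGroup K] (hK : ¬ IsMulCommutative K)
    (hKM : K ≤ M) (hn : M ≤ normalizer (K : Set G)) {idx : ℕ} (hi : Nat.card M = idx * Nat.card K)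
    {x : K} (hx : orderOf x = 7) :
    ∃ (c7 : ℕ) (a b y : ℤ), Nat.card (Cg x) = 7 * c7 ∧ Nat.card (Ng x) = 21 * c7 ∧
      F7 K idx c7 a b y ∧
      (a.natAbs ≠ b.natAbs → ∀ g : K, orderOf g = 11 → RatP a b (Nat.card (Cg g))) := by
  have p7 : Nat.Prime 7 := by norm_num
  have hsq : ¬ 7 ^ 2 ∣ Nat.card K := fun h => by
    have := h.trans (card_subgroup_dvd_card K)
    rw [J.card_G] at this
    norm_num at this
  obtain ⟨cC, cN⟩ := J.c7 x ((orderOf_coe x).trans hx)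
  obtain ⟨e, n, h1, h2, h3, -, ⟨c, hc⟩, h5, h6⟩ := loc p7 K x hx hsq
  rw [cC, cN] at h6
  rw [cC, hc] at h5
  obtain rfl : e = 3 := by
    have h7 : e ∣ 3 := Nat.dvd_of_mul_dvd_mul_right (k := 840) (by norm_num) h6
    exact ((Nat.dvd_prime Nat.prime_three).1 h7).resolve_left fun e1 =>
      loc_simple hK p7 hx hsq (by rw [h1, e1, one_mul])
  have hN : Nat.card (Ng x) = 21 * c := by rw [h1, hc]; ring
  have hf := loc_frattini p7 hKM hn x hx hsq
  rw [hi, ← mul_assoc, hN] at hf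
  have h8 : 21 * c * idx ∣ 2520 := by
    rw [Nat.eq_of_mul_eq_mul_right Nat.card_pos hf, ← cN]
    exact card_dvd_of_le inf_le_left
  obtain ⟨T⟩ := exists_tri hx hsq h1
  obtain ⟨d1, d2, d3⟩ := T.isDeg
  obtain ⟨f1, f2, f3⟩ := T.f4 hx
  rw [hc] at f1 f2 f3
  refine ⟨c, T.a, T.b, T.y, hc, hN, ⟨Nat.dvd_of_mul_dvd_mul_left (k := 7) (by norm_num) h5, ?_,
    Nat.dvd_of_mul_dvd_mul_left (k := 21) (by norm_num) (by rwa [← mul_assoc]), T.deg_eq, T.mod₂, T.mod₃, d1, d2, d3,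
    f1, f2, f3, T.square hK (not_real hx hsq h1)⟩, fun hne g hg => T.ratq hne (by norm_num) (by norm_num) hg⟩
  exact cnt_of (hN ▸ Nat.card_pos) (by rw [h2, ← h1, hN]) h3

end Cfsg.Agent.MX
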