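import Cfsg.Agent.MX.Defs
import Cfsg.Agent.MX.NF
import Cfsg.Agent.MX.Loc
import Cfsg.Agent.MX.DegEq
import Cfsg.Agent.MX.Deg
import Cfsg.Agent.MX.F1

set_option autoImplicit false

namespace Cfsg.Agent.MX

open Cfsg Subgroup

variable {G : Type*} [Group G] [Finite G]

namespace NFi

theorem pos_mod {q e d : ℕ} (he : e < q) (h : (d : ℤ) ≡ e [ZMOD q]) : d % q = e := by
  have := Int.natCast_modEq_iff.1 h
  rwa [Nat.ModEq, Nat.mod_eq_of_lt he] at this

theorem neg_mod {q e d : ℕ} (h0 : 0 < e) (he : e < q) (h : (d : ℤ) ≡ -e [ZMOD q]) :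
    d % q + e = q := by
  have h1 : q ∣ d + e := by
    apply Int.natCast_dvd_natCast.1
    have := h.symm.dvd
    push_cast
    simpa using this
  have h2 : q ∣ d % q + e := (Nat.dvd_add_right (Nat.dvd_mul_right q (d / q))).1 (by
    rwa [← add_assoc, Nat.div_add_mod])
  have h3 : d % q < q := Nat.mod_lt _ (by omega)
  obtain ⟨c, hc⟩ := h2
  have : c = 1 := by
    rcases c with _ | _ | c
    · omega
    · rfl
    · nlinarith
  rw [hc, this, mul_one]

theorem good_of {k q e d t : ℕ} (h0 : 0 < e) (he : e < q) (ht : q = e * t + 1)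
    (h1 : q ∣ d ∨ (d : ℤ) ≡ 1 [ZMOD q] ∨ (d : ℤ) ≡ -1 [ZMOD q] ∨ (d : ℤ) ≡ e [ZMOD q] ∨
      (d : ℤ) ≡ -e [ZMOD q])
    (h2 : 2 * k ≠ q * (q * q - 1) → q ≤ d + 2) (h3 : Odd t → d + 1 ≠ q) : good k q e d = true := by
  have e1 : (q - 1) / e = t := by
    rw [ht, Nat.add_sub_cancel, Nat.mul_div_cancel_left _ h0]
  simp only [good, Bool.and_eq_true, Bool.or_eq_true, Nat.beq_eq, Nat.ble_eq, Bool.not_eq_true',
    ← Bool.not_eq_true, e1]
  refine ⟨⟨?_, ?_⟩, ?_⟩
  · rcases h1 with h | h | h | h | h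
    · exact .inl (.inl (.inl (.inl (Nat.dvd_iff_mod_eq_zero.1 h))))
    · exact .inl (.inl (.inl (.inr (pos_mod (by omega) (by simpa using h)))))
    · exact .inl (.inl (.inr (neg_mod one_pos (by omega) (by simpa using h))))
    · exact .inl (.inr (pos_mod he h))
    · exact .inr (neg_mod h0 he h)
  · exact (em _).imp_right h2
  · exact (Nat.even_or_odd t).imp Nat.even_iff.1 h3

theorem key (J : JF G) (K : Subgroup G) [IsSimpleGroup K] (hK : ¬ IsMulCommutative K) {q m : ℕ}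
    (hq : q.Prime) (h7 : 7 < q) (hm : (q, m) ∈ isoL) (hsq : ¬ q ^ 2 ∣ 86775571046077562880)
    (h : q ∣ Nat.card K) : ∃ e, e ∣ m ∧ 2 ≤ e ∧ cnt (Nat.card K) q (q * e) = true ∧
      (∀ d, IsDeg K d → good (Nat.card K) q e d = true) ∧ DegEq K q e q := by
  haveI := Fact.mk hq
  obtain ⟨x, hx⟩ := exists_prime_orderOf_dvd_card' q h
  have h2 : ¬ q ^ 2 ∣ Nat.card K := fun l => hsq (J.card_G ▸ l.trans (card_subgroup_dvd_card K))
  obtain ⟨e, n, hN, hn, n1, eq, qC, Cd, eN⟩ := loc hq K x hx h2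
  obtain ⟨hC, hM⟩ := J.iso _ hm (x : G) (by rw [orderOf_coe, hx])
  have cG : Nat.card (Cg (x : G)) = q := by rw [hC, Nat.card_zpowers, orderOf_coe, hx]
  rw [cG] at Cd eN
  have cK : Nat.card (Cg x) = q := Nat.dvd_antisymm Cd qC
  have e1 : e ≠ 1 := by
    rintro rfl
    exact loc_simple hK hq hx h2 (by rw [hN, one_mul])
  have e0 : 0 < e := Nat.pos_of_dvd_of_pos eq (by omega)
  have el : e < q := by have := Nat.le_of_dvd (by omega) eq; omega
  obtain ⟨t, ht⟩ := eq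
  have ht' : q = e * t + 1 := by omega
  have dg := degEq hq (by omega) hx h2 hN (by omega)
  rw [cK] at hN hn dg
  refine ⟨e, ?_, by omega, cnt_of (n := n) (Nat.mul_pos hq.pos e0) (by rw [hn]; ring) n1,
    fun d hd => good_of e0 el ht' (hd.f1 hq (by omega) hx cK hN)
      (fun h3 => hd.min hK hq h7 h h2 h3) (fun ho => hd.ne_pred hK hq hx cK hN ht' ho), dg⟩
  rw [hM, mul_comm] at eN
  exact Nat.dvd_of_mul_dvd_mul_left hq.pos eN

end NFi

theorem JF.nf_iso (J : JF G) (K : Subgroup G) [IsSimpleGroup K] (hK : ¬ IsMulCommutative K) :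
    IsoF K := by
  intro x hx h
  have hx' := hx
  simp only [isoL, List.mem_cons, List.not_mem_nil, or_false] at hx'
  rcases hx' with rfl | rfl | rfl | rfl | rfl <;>
    exact NFi.key J K hK (by norm_num) (by norm_num) hx (by norm_num) h

theorem JF.nf_5 (J : JF G) (K : Subgroup G) [IsSimpleGroup K] (hK : ¬ IsMulCommutative K) {x : K}
    (hx : orderOf x = 5) : ∃ c5 e5, Nat.card (Cg x) = 5 * c5 ∧ Nat.card (Ng x) = 5 * c5 * e5 ∧
      F5 K c5 e5 := by
  have hq : Nat.Prime 5 := by norm_num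
  have h2 : ¬ 5 ^ 2 ∣ Nat.card K := fun l =>
    absurd (J.card_G ▸ l.trans (card_subgroup_dvd_card K)) (by norm_num)
  obtain ⟨e, n, hN, hn, n1, eq, ⟨c, hc⟩, Cd, -⟩ := loc hq K x hx h2
  rw [(J.c5 (x : G) (by rw [orderOf_coe, hx])).1] at Cd
  have e1 : e ≠ 1 := by
    rintro rfl
    exact loc_simple hK hq hx h2 (by rw [hN, one_mul])
  have e4 : e = 2 ∨ e = 4 := by
    have := Nat.le_of_dvd (by norm_num) eq
    interval_cases e <;> simp_all
  have dg := degEq hq (by norm_num) hx h2 hN (by omega)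
  have c0 : 0 < Nat.card (Cg x) := Nat.card_pos
  rw [hc] at hN hn dg Cd c0
  refine ⟨c, e, hc, by rw [hN]; ring, Nat.dvd_of_mul_dvd_mul_left (by norm_num : 0 < 5) Cd,
    by simpa using e4, cnt_of (n := n) (Nat.mul_pos c0 (by omega)) (by rw [hn]; ring) n1, dg⟩

end Cfsg.Agent.MX
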