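import Cfsg.Agent.MX.Defs
import Cfsg.Agent.MX.NFi
import Cfsg.Agent.MX.NF11
import Cfsg.Agent.MX.NF7
import Cfsg.Agent.MX.Inter
import Cfsg.Agent.MX.Deg

/-! Project MX (notes/MX.md, paragraph ExNF). -/

set_option autoImplicit false

namespace Cfsg.Agent.MX

open Cfsg Subgroup

variable {G : Type*} [Group G] [Finite G]

theorem JF.exists_NF (J : JF G) {K M : Subgroup G} [IsSimpleGroup K] (hK : ¬ IsMulCommutative K)
    (hKM : K ≤ M) (hn : M ≤ normalizer (K : Set G)) {idx : ℕ} (hi : Nat.card M = idx * Nat.card K)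
    (hi' : ¬ 11 ∣ idx) :
    ∃ (c11 e11 c7 c5 e5 : ℕ) (a b y : ℤ), NF K idx c11 e11 c7 c5 e5 a b y := by
  have dv : Nat.card K ∣ 86775571046077562880 := J.card_G ▸ card_subgroup_dvd_card K
  have n5 : ¬ 5 ^ 2 ∣ Nat.card K := fun h => absurd (h.trans dv) (by decide)
  have n7 : ¬ 7 ^ 2 ∣ Nat.card K := fun h => absurd (h.trans dv) (by decide)
  have ex : ∀ p : ℕ, p.Prime → p ∣ Nat.card K → ∃ x : K, orderOf x = p := fun p hp h =>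
    haveI := Fact.mk hp
    exists_prime_orderOf_dvd_card' p h
  obtain ⟨c11, e11, h11⟩ : ∃ c e, 11 ∣ Nat.card K → ¬ 121 ∣ Nat.card K →
      ∃ x : K, orderOf x = 11 ∧ Nat.card (Cg x) = 11 * c ∧ F11 K idx c e := by
    by_cases h : 11 ∣ Nat.card K ∧ ¬ 121 ∣ Nat.card K
    · obtain ⟨x, hx⟩ := ex 11 (by norm_num) h.1
      obtain ⟨c, e, k⟩ := J.nf_11 hK hKM hn hi hi' h.2 hx
      exact ⟨c, e, fun _ _ => ⟨x, hx, k⟩⟩
    · exact ⟨0, 0, fun a b => absurd ⟨a, b⟩ h⟩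
  obtain ⟨c7, a, b, y, h7⟩ : ∃ (c7 : ℕ) (a b y : ℤ), 7 ∣ Nat.card K → ∃ x : K, orderOf x = 7 ∧
      Nat.card (Cg x) = 7 * c7 ∧ Nat.card (Ng x) = 21 * c7 ∧ F7 K idx c7 a b y ∧
      (a.natAbs ≠ b.natAbs → ∀ g : K, orderOf g = 11 → RatP a b (Nat.card (Cg g))) := by
    by_cases h : 7 ∣ Nat.card K
    · obtain ⟨x, hx⟩ := ex 7 (by norm_num) h
      obtain ⟨c, a, b, y, k⟩ := J.nf_7 hK hKM hn hi hx
      exact ⟨c, a, b, y, fun _ => ⟨x, hx, k⟩⟩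
    · exact ⟨0, 0, 0, 0, fun a => absurd a h⟩
  obtain ⟨c5, e5, h5⟩ : ∃ c5 e5, 5 ∣ Nat.card K → ∃ x : K, orderOf x = 5 ∧
      Nat.card (Cg x) = 5 * c5 ∧ Nat.card (Ng x) = 5 * c5 * e5 ∧ F5 K c5 e5 := by
    by_cases h : 5 ∣ Nat.card K
    · obtain ⟨x, hx⟩ := ex 5 (by norm_num) h
      obtain ⟨c, e, k⟩ := J.nf_5 K hK hx
      exact ⟨c, e, fun _ => ⟨x, hx, k⟩⟩
    · exact ⟨0, 0, fun a => absurd a h⟩
  refine ⟨c11, e11, c7, c5, e5, a, b, y, fun d hd => ⟨hd.dvd, hd.two_le hK, hd.sq_lt⟩, J.nf_iso K hK,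
    fun h h' => (h11 h h').elim fun _ k => k.2.2, fun h => (h7 h).elim fun _ k => k.2.2.2.1,
    fun h => (h5 h).elim fun _ k => k.2.2.2, fun h h' => ?_, fun h h' h'' ne => ?_⟩
  · obtain ⟨x, ox, cx, nx, -⟩ := h5 h
    obtain ⟨w, ow, cw, nw, -⟩ := h7 h'
    have i1 := inter_iff (by norm_num) (by norm_num) ox ow n5 n7
    rw [cx, cw] at i1
    refine ⟨by omega, fun k => ?_⟩
    obtain ⟨r, r₂, r₃, k1, k2, k3, k4, k5, k6, k7, k8, k9, k10, k11, k12⟩ :=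
      inter (by norm_num) (by norm_num) (by norm_num) ox ow n5 n7 (by rw [cw]; omega)
    rw [nx] at k5 k6
    rw [nw] at k7 k8
    rw [cx] at k9 k10
    rw [cw] at k11 k12
    exact ⟨r, r₂, r₃, k1, k2, k3, k4, cnt_iff.2 ⟨k5, k6⟩, cnt_iff.2 ⟨k7, k8⟩, cnt_iff.2 ⟨k9, k10⟩,
      cnt_iff.2 ⟨k11, k12⟩⟩
  · obtain ⟨x, ox, cx, -⟩ := h11 h' h''
    obtain ⟨w, -, -, -, -, k⟩ := h7 h
    exact cx ▸ k ne x ox

end Cfsg.Agent.MX
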