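import Cfsg.Agent.MX.Defs
import Cfsg.Agent.MX.U7
import Cfsg.Agent.MX.NSo
import Cfsg.Agent.MX.KS
import Cfsg.Agent.MX.Loc
import Cfsg.Agent.MX.TriEx
import Cfsg.Agent.MX.TriSq
import Cfsg.Agent.MX.D110
import Cfsg.Agent.MX.Om
import Cfsg.Agent.MX.Deg
import Cfsg.Agent.H15.LXMore

set_option autoImplicit false

namespace Cfsg.Agent.MX

open Cfsg Subgroup

variable {G : Type*} [Group G] [Finite G]

theorem JF.noU (J : JF G) (U : Sylow 11 G) {M : Subgroup G}
    (hU : normalizer ((U : Subgroup G) : Set G) ≤ M) : Nat.card M ≠ 219815608320 := by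
  intro hM
  have h7 : Nat.Prime 7 := by norm_num
  have : Fact (Nat.Prime 7) := ⟨h7⟩
  have : Fact (Nat.Prime 11) := ⟨by norm_num⟩
  obtain ⟨y, hy⟩ := exists_prime_orderOf_dvd_card' (G := M) 7 (by rw [hM]; norm_num)
  have hy' : orderOf (y : G) = 7 := by rw [orderOf_coe, hy]
  have c7 := J.c7 y hy'
  have h49 : ¬ 7 ^ 2 ∣ Nat.card M := by rw [hM]; norm_num
  obtain ⟨K, hKM, hn, hyK, hs, hK⟩ := ks h7 y.2 hy' h49
    (fun L hL hn h => J.ns_core U hU hM hL hn h) (fun h => by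
      have := card_dvd_of_le h
      rw [hM, c7.2] at this
      norm_num at this)
  have dK : Nat.card K ∣ 219815608320 := hM ▸ card_dvd_of_le hKM
  have h49' : ¬ 7 ^ 2 ∣ Nat.card K := fun h => h49 (h.trans (card_dvd_of_le hKM))
  set x : K := ⟨y, hyK⟩ with hxdef
  have hx : orderOf x = 7 := by rw [← orderOf_coe]; exact hy'
  have h1331 : 11 ^ 3 ∣ Nat.card K := by
    have e := loc_frattini h7 hKM hn x hx h49'
    have d1 : Nat.card ↥(Ng (x : G) ⊓ M) ∣ 2520 := c7.2 ▸ card_dvd_of_le inf_le_left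
    have d2 : 11 ^ 3 ∣ Nat.card ↥(Ng (x : G) ⊓ M) * Nat.card K := by
      rw [← e, hM]
      exact Dvd.dvd.mul_left (by norm_num) _
    exact (Nat.Coprime.coprime_dvd_right d1 (by norm_num)).dvd_of_dvd_mul_left d2
  obtain ⟨e, n, e1, -, -, -, e7, -, e3⟩ := loc h7 K x hx h49'
  have he : e = 3 := by
    rw [show (x : G) = y from rfl, c7.1, c7.2] at e3
    have : e ∣ 3 := Nat.dvd_of_mul_dvd_mul_right (k := 840) (by norm_num) e3
    rcases (Nat.dvd_prime Nat.prime_three).1 this with h | h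
    · exact absurd (by rw [e1, h, one_mul]) (loc_simple hK h7 hx h49')
    · exact h
  subst he
  obtain ⟨T⟩ := exists_tri hx h49' e1
  obtain ⟨W, hW⟩ := Sylow.exists_subgroup_card_pow_prime 11 h1331
  have hW' : Nat.card (W.map K.subtype) = 11 ^ 3 := by
    rw [card_map_of_injective K.subtype_injective, hW]
  obtain ⟨U', hU'⟩ := (IsPGroup.of_card hW').exists_le_sylow
  have eU : W.map K.subtype = U' := eq_of_le_of_card_ge hU' (by rw [(J.syl11 U').2.1, hW']; norm_num)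
  have hE : IsExtraspecial 11 W :=
    H15.isExtraspecial_congr (W.equivMapOfInjective _ K.subtype_injective).symm (eU ▸ (J.syl11 U').1)
  have D : ∀ d : ℕ, d * Nat.card (Cg x) ∣ Nat.card K → d ∣ 31402229760 := fun d hd =>
    Nat.dvd_of_mul_dvd_mul_right (k := 7) (by norm_num)
      (((Nat.mul_dvd_mul_left d e7).trans hd).trans dK)
  have lK : Nat.card K ≤ 219815608320 := Nat.le_of_dvd (by norm_num) dK
  obtain ⟨f1, f2, f3⟩ := T.f4 hx
  obtain ⟨i1, i2, -⟩ := T.isDeg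
  exact no_tri_U T.deg_eq T.mod₂ T.mod₃ (D _ f1) (D _ f2) (D _ f3) (i1.sq_lt.trans_le lK)
    (i2.sq_lt.trans_le lK) (i1.two_le hK) (i2.two_le hK) (fun h => T.ge110 h W hE)
    (T.square hK (not_real hx h49' e1))

end Cfsg.Agent.MX
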